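import Cfsg.Agent.Lib.CentAlt.Squares
import Cfsg.Agent.S0111
import Cfsg.Prelude.Def_TwoFusion
import Cfsg.Agent.Lib.OddChar.OddTheorem

/-!
A group with a 2-central involution with centraliser `⟨J⟩ × A_m` and without subgroup of index two.
-/

set_option autoImplicit false
set_option linter.style.haveILetI false
set_option linter.unusedSectionVars false

namespace Cfsg.Agent.CentAlt

/-- The hypotheses. -/
structure Data {G : Type*} [Group G] (J : G) (T : Subgroup G) (m : ℕ) : Prop where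
  ord : orderOf J = 2
  twoCentral : ∃ P : Sylow 2 G, J ∈ P ∧ ∀ x ∈ P, x * J = J * x
  iso : Nonempty (T ≃* alternatingGroup (Fin m))
  prod : Cfsg.IsInternalDirectProduct (Subgroup.zpowers J) T (Subgroup.centralizer ({J} : Set G))
  noIndexTwo : ∀ N : Subgroup G, N.Normal → N.index ≠ 2

namespace Data

variable {G : Type*} [Group G] [Finite G] {J : G} {T : Subgroup G} {m : ℕ}

theorem sq (h : Data J T m) : J * J = 1 := by rw [← pow_two, ← h.ord, pow_orderOf_eq_one]

theorem ne_one (h : Data J T m) : J ≠ 1 := fun e => by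
  have := h.ord
  rw [e, orderOf_one] at this
  omega

theorem T_le (h : Data J T m) : T ≤ Subgroup.centralizer ({J} : Set G) := h.prod.2.1

theorem comm (h : Data J T m) {τ : G} (hτ : τ ∈ T) : J * τ = τ * J :=
  h.prod.2.2.1 J (Subgroup.mem_zpowers J) τ hτ

theorem notMem (h : Data J T m) : J ∉ T := fun hJ => h.ne_one (by
  have : J ∈ Subgroup.zpowers J ⊓ T := ⟨Subgroup.mem_zpowers J, hJ⟩
  rwa [h.prod.2.2.2.1, Subgroup.mem_bot] at this)

theorem split (h : Data J T m) {c : G} (hc : c * J = J * c) : c ∈ T ∨ J * c ∈ T := by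
  let U : Subgroup G :=
    { carrier := {c | c ∈ Subgroup.centralizer ({J} : Set G) ∧ (c ∈ T ∨ J * c ∈ T)}
      one_mem' := ⟨one_mem _, Or.inl (one_mem _)⟩
      mul_mem' := by
        rintro a b ⟨ha, ha'⟩ ⟨hb, hb'⟩
        refine ⟨mul_mem ha hb, ?_⟩
        have e : J * a = a * J := (Subgroup.mem_centralizer_singleton_iff.1 ha).symm
        rcases ha' with ha' | ha' <;> rcases hb' with hb' | hb'
        · exact Or.inl (mul_mem ha' hb')
        · right
          rw [← mul_assoc, e, mul_assoc]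
          exact mul_mem ha' hb'
        · right
          rw [← mul_assoc]
          exact mul_mem ha' hb'
        · left
          have := mul_mem ha' hb'
          rw [e, mul_assoc a J (J * b), ← mul_assoc J J b, h.sq, one_mul] at this
          exact this
      inv_mem' := by
        rintro a ⟨ha, ha'⟩
        refine ⟨inv_mem ha, ?_⟩
        rcases ha' with ha' | ha'
        · exact Or.inl (inv_mem ha')
        · right
          have := inv_mem ha'
          rw [mul_inv_rev, inv_eq_of_mul_eq_one_right h.sq] at this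
          rwa [show J * a⁻¹ = a⁻¹ * J from
            (Subgroup.mem_centralizer_singleton_iff.1 (inv_mem ha)).symm] }
  have hle : Subgroup.centralizer ({J} : Set G) ≤ U := by
    refine h.prod.2.2.2.2.ge.trans (sup_le (Subgroup.zpowers_le.2 ?_) fun τ hτ => ⟨h.T_le hτ, Or.inl hτ⟩)
    exact ⟨Subgroup.mem_centralizer_singleton_iff.2 rfl, Or.inr (by rw [h.sq]; exact one_mem _)⟩
  exact (hle (Subgroup.mem_centralizer_singleton_iff.2 hc)).2

theorem sq_mem (h : Data J T m) {c : G} (hc : c * J = J * c) : c * c ∈ T := by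
  rcases h.split hc with h' | h'
  · exact mul_mem h' h'
  · have := mul_mem h' h'
    rwa [show J * c * (J * c) = J * (c * J) * c by group, hc, ← mul_assoc J J c, h.sq, one_mul] at this

theorem exists_sylow (h : Data J T m) : ∃ P : Sylow 2 G, J ∈ (P : Subgroup G) ∧
    (P : Subgroup G) ≤ Subgroup.centralizer ({J} : Set G) := by
  obtain ⟨P, hJP, hP⟩ := h.twoCentral
  exact ⟨P, hJP, fun x hx => Subgroup.mem_centralizer_singleton_iff.2 (hP x hx)⟩

theorem card_inf (h : Data J T m) (P : Sylow 2 G) (hJ : J ∈ (P : Subgroup G))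
    (hP : (P : Subgroup G) ≤ Subgroup.centralizer ({J} : Set G)) :
    Nat.card (P : Subgroup G) = 2 * Nat.card ((P : Subgroup G) ⊓ T : Subgroup G) := by
  let f : Fin 2 × ((P : Subgroup G) ⊓ T : Subgroup G) → (P : Subgroup G) := fun p =>
    ⟨(if p.1 = 0 then 1 else J) * p.2.1, mul_mem (by split_ifs; exacts [one_mem _, hJ]) p.2.2.1⟩
  have hinj : Function.Injective f := by
    rintro ⟨i, a⟩ ⟨j, b⟩ e
    have e' : (if i = 0 then 1 else J) * a.1 = (if j = 0 then 1 else J) * b.1 := congrArg Subtype.val e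
    fin_cases i <;> fin_cases j <;> simp at e'
    · exact Prod.ext rfl e'
    · exact absurd ((T.mul_mem_cancel_right b.2.2).1 (e' ▸ a.2.2)) h.notMem
    · exact absurd ((T.mul_mem_cancel_right a.2.2).1 (e'.symm ▸ b.2.2)) h.notMem
    · exact Prod.ext rfl e'
  have hsurj : Function.Surjective f := by
    rintro ⟨p, hp⟩
    rcases h.split (Subgroup.mem_centralizer_singleton_iff.1 (hP hp)) with h' | h'
    · exact ⟨(0, ⟨p, hp, h'⟩), Subtype.ext (one_mul p)⟩
    · refine ⟨(1, ⟨J * p, mul_mem hJ hp, h'⟩), Subtype.ext ?_⟩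
      simp [f, ← mul_assoc, h.sq]
  have := Nat.card_eq_of_bijective f ⟨hinj, hsurj⟩
  rw [Nat.card_prod, Nat.card_fin] at this
  exact this.symm

/-- Thompson transfer. -/
theorem transfer (h : Data J T m) (P : Sylow 2 G) (hJ : J ∈ (P : Subgroup G))
    (hP : (P : Subgroup G) ≤ Subgroup.centralizer ({J} : Set G)) {u : G} (hu : orderOf u = 2)
    (huP : u ∈ (P : Subgroup G)) : ∃ g : G, g * u * g⁻¹ ∈ T := by
  by_cases huT : u ∈ T
  · exact ⟨1, by simpa using huT⟩
  have hidx : ((P : Subgroup G) ⊓ T).relIndex (P : Subgroup G) = 2 := by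
    have h1 := Subgroup.relIndex_mul_relIndex (⊥ : Subgroup G) ((P : Subgroup G) ⊓ T) (P : Subgroup G)
      bot_le inf_le_left
    rw [Subgroup.relIndex_bot_left, Subgroup.relIndex_bot_left, h.card_inf P hJ hP, mul_comm 2] at h1
    exact Nat.eq_of_mul_eq_mul_left Nat.card_pos h1
  rcases Cfsg.Agent.S0111.result P ((P : Subgroup G) ⊓ T) inf_le_left hidx u hu huP (fun hh => huT hh.2) with
    ⟨M, hM, hM2, -⟩ | ⟨g, hg⟩
  · exact absurd hM2 (h.noIndexTwo M hM)
  · exact ⟨g, hg.2⟩

theorem exists_conj_T (h : Data J T m) : ∃ g : G, g * J * g⁻¹ ∈ T := by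
  obtain ⟨P, hJ, hP⟩ := h.exists_sylow
  exact h.transfer P hJ hP h.ord hJ

/-- Every involution has a conjugate in `T`. -/
theorem conj_into (h : Data J T m) {x : G} (hx : orderOf x = 2) : ∃ g : G, g * x * g⁻¹ ∈ T := by
  haveI : Fact (Nat.Prime 2) := ⟨Nat.prime_two⟩
  obtain ⟨P, hJ, hP⟩ := h.exists_sylow
  obtain ⟨Q, hQ⟩ := (IsPGroup.of_card (n := 1) (by rw [Nat.card_zpowers, hx, pow_one]) :
    IsPGroup 2 (Subgroup.zpowers x)).exists_le_sylow
  obtain ⟨g, hg⟩ := MulAction.exists_smul_eq G Q P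
  have hxP : g * x * g⁻¹ ∈ (P : Subgroup G) := by
    rw [← hg]
    exact ⟨x, hQ (Subgroup.mem_zpowers x), rfl⟩
  obtain ⟨k, hk⟩ := h.transfer P hJ hP (u := g * x * g⁻¹) (by
    rw [show g * x * g⁻¹ = MulAut.conj g x from rfl, MulEquiv.orderOf_eq, hx]) hxP
  refine ⟨k * g, ?_⟩
  rwa [show k * g * x * (k * g)⁻¹ = k * (g * x * g⁻¹) * k⁻¹ by group]

theorem conj_model (h : Data J T m) : ∃ (e : T ≃* alternatingGroup (Fin m)) (g : G) (hg : g * J * g⁻¹ ∈ T),
    e ⟨_, hg⟩ * e ⟨_, hg⟩ = 1 ∧ e ⟨_, hg⟩ ≠ 1 := by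
  obtain ⟨e⟩ := h.iso
  obtain ⟨g, hg⟩ := h.exists_conj_T
  refine ⟨e, g, hg, ?_, fun he => ?_⟩
  · rw [← map_mul, ← e.map_one]
    congr 1
    refine Subtype.ext ?_
    show g * J * g⁻¹ * (g * J * g⁻¹) = 1
    rw [show g * J * g⁻¹ * (g * J * g⁻¹) = g * (J * J) * g⁻¹ by group, h.sq]; group
  · rw [EmbeddingLike.map_eq_one_iff] at he
    exact h.ne_one (conj_eq_one_iff.1 (congrArg Subtype.val he))

theorem four_le (h : Data J T m) : 4 ≤ m := by
  obtain ⟨e, g, hg, hsq, hne⟩ := h.conj_model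
  by_contra hm
  have key : ∀ k, k < 4 → ∀ a : alternatingGroup (Fin k), a * a = 1 → a = 1 := by
    intro k hk
    interval_cases k <;> decide
  exact hne (key m (by omega) _ hsq)

theorem le_five (h : Data J T m) : m ≤ 5 := by
  by_contra hm
  obtain ⟨e, g, hg, hsq, -⟩ := h.conj_model
  have hmem := mem_closure_squares (α := Fin m) (by rw [Fintype.card_fin]; omega) _ hsq
  have hle : Subgroup.closure {z : alternatingGroup (Fin m) | ∃ w, w * e ⟨_, hg⟩ = e ⟨_, hg⟩ * w ∧ z = w * w} ≤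
      (T.comap (((MulAut.conj g⁻¹).toMonoidHom.comp T.subtype).comp e.symm.toMonoidHom)) := by
    rw [Subgroup.closure_le]
    rintro z ⟨w, hw, rfl⟩
    have hw' : (e.symm w : G) * (g * J * g⁻¹) = g * J * g⁻¹ * (e.symm w : G) := by
      have := congrArg e.symm hw
      rw [map_mul, map_mul, e.symm_apply_apply] at this
      exact congrArg Subtype.val this
    show g⁻¹ * ((e.symm (w * w) : T) : G) * g⁻¹⁻¹ ∈ T
    rw [map_mul, Subgroup.coe_mul, inv_inv,
      show g⁻¹ * ((e.symm w : G) * (e.symm w : G)) * g = (g⁻¹ * (e.symm w : G) * g) * (g⁻¹ * (e.symm w : G) * g) by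
        group]
    refine h.sq_mem ?_
    calc g⁻¹ * (e.symm w : G) * g * J = g⁻¹ * ((e.symm w : G) * (g * J * g⁻¹)) * g := by group
      _ = J * (g⁻¹ * (e.symm w : G) * g) := by rw [hw']; group
  have := hle hmem
  have h' : g⁻¹ * ((e.symm (e ⟨_, hg⟩) : T) : G) * g⁻¹⁻¹ ∈ T := this
  rw [e.symm_apply_apply, inv_inv, show g⁻¹ * (g * J * g⁻¹) * g = J by group] at h'
  exact h.notMem h'

end Data

end Cfsg.Agent.CentAlt
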