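import Mathlib.GroupTheory.SpecificGroups.Alternating
import Mathlib.GroupTheory.SpecificGroups.Alternating.Simple

/-!
Finite facts about the alternating groups of degree four and five.
-/

set_option autoImplicit false

namespace Cfsg.Agent.CentAlt

abbrev A4' := alternatingGroup (Fin 4)
abbrev A5' := alternatingGroup (Fin 5)

theorem card_four : Nat.card A4' = 12 := by
  rw [Nat.card_eq_fintype_card]; decide +kernel

theorem card_five : Nat.card A5' = 60 := by
  rw [Nat.card_eq_fintype_card]; decide +kernel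

theorem sq_four : ∀ x : A4', x ^ 4 = 1 → x * x = 1 := by decide +kernel

theorem sq_five : ∀ x : A5', x ^ 4 = 1 → x * x = 1 := by decide +kernel

theorem fuse_four : ∀ a b : A4', a * a = 1 → b * b = 1 → a ≠ 1 → b ≠ 1 → ∃ c, c * a * c⁻¹ = b := by
  decide +kernel

theorem fuse_five : ∀ a b : A5', a * a = 1 → b * b = 1 → a ≠ 1 → b ≠ 1 → ∃ c, c * a * c⁻¹ = b := by
  decide +kernel

theorem comm_four : ∀ v τ : A4', v * v = 1 → (v * τ * v⁻¹ * τ⁻¹) * (v * τ * v⁻¹ * τ⁻¹) = 1 := by decide +kernel

theorem cent_four : ∀ τ : A4', (∀ v : A4', v * v = 1 → v * τ = τ * v) → τ * τ = 1 := by decide +kernel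

theorem klein_four : ∀ a b : A4', a * a = 1 → b * b = 1 → (a * b) * (a * b) = 1 := by decide +kernel

theorem mover_four : ∃ c v : A4', c * c * c = 1 ∧ v * v = 1 ∧ c * v ≠ v * c := by decide +kernel

theorem invol_five : ∃ v : A5', v * v = 1 ∧ v ≠ 1 := by decide +kernel

theorem simple_five : IsSimpleGroup A5' := alternatingGroup.isSimpleGroup (by simp)

end Cfsg.Agent.CentAlt
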