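import Cfsg.Agent.Lib.CentAlt.Main
import Cfsg.Agent.S1644

/-!
Degree five: the group is the first Janko group.
-/

set_option autoImplicit false
set_option linter.style.haveILetI false
set_option linter.unusedSectionVars false

namespace Cfsg.Agent.CentAlt

universe u

theorem two_key : ∀ a b : Multiplicative (ZMod 2),
    (a = 1 ∧ (a * b = 1 ↔ b = 1)) ∨ (a ≠ 1 ∧ (a * b = 1 ↔ b ≠ 1)) := by decide

variable {G : Type u} [Group G] [Finite G] {J : G} {T : Subgroup G}

namespace Data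

theorem C_le_socle (h : Data J T 5) {P : Sylow 2 G} {M : Subgroup G} (hJ : J ∈ (P : Subgroup G))
    (hs : Socle J M P) : Subgroup.centralizer ({J} : Set G) ≤ M := by
  haveI : Fact (Nat.Prime 2) := ⟨Nat.prime_two⟩
  obtain ⟨e⟩ := h.iso
  haveI := simple_five
  haveI : IsSimpleGroup T := e.isSimpleGroup
  haveI := hs.normal
  have hJM : J ∈ M := hs.le hJ
  obtain ⟨v, hv, hv1⟩ := invol_five
  have hvM : ((e.symm v : T) : G) ∈ M := by
    have hne : ((e.symm v : T) : G) ≠ 1 := fun he => hv1 (by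
      have : (e.symm v : T) = 1 := Subtype.ext he
      rwa [EmbeddingLike.map_eq_one_iff] at this)
    have hsq : ((e.symm v : T) : G) * (e.symm v : T) = 1 := by
      rw [← Subgroup.coe_mul, ← map_mul, hv, map_one, Subgroup.coe_one]
    obtain ⟨g, hg⟩ := h.one_class h.ord (orderOf_eq_prime (by rw [pow_two]; exact hsq) hne)
    rw [← hg]
    exact hs.normal.conj_mem J hJM g
  have hTM : T ≤ M := by
    rcases Subgroup.Normal.eq_bot_or_eq_top (hs.normal.comap T.subtype : (M.subgroupOf T).Normal) with e1 | e1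
    · exfalso
      have : e.symm v ∈ M.subgroupOf T := Subgroup.mem_subgroupOf.2 hvM
      rw [Subgroup.subgroupOf, e1, Subgroup.mem_bot, EmbeddingLike.map_eq_one_iff] at this
      exact hv1 this
    · exact Subgroup.subgroupOf_eq_top.1 e1
  intro c hc
  rcases h.split (Subgroup.mem_centralizer_singleton_iff.1 hc) with h' | h'
  · exact hTM h'
  · exact (M.mul_mem_cancel_left hJM).1 (hTM h')

theorem fused_in_socle (h : Data J T 5) {P : Sylow 2 G} {M : Subgroup G} (hJ : J ∈ (P : Subgroup G))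
    (hP : (P : Subgroup G) ≤ Subgroup.centralizer ({J} : Set G))
    (hs : Socle J M P) {x : G} (hx : orderOf x = 2) (hxM : x ∈ M) :
    ∃ k ∈ M, k * x * k⁻¹ ∈ T := by
  haveI : Fact (Nat.Prime 2) := ⟨Nat.prime_two⟩
  haveI := hs.simple
  have hTM : T ≤ M := h.T_le.trans (h.C_le_socle hJ hs)
  set P' := P.subtype hs.le with hP'
  obtain ⟨Q, hQ⟩ := (IsPGroup.of_card (n := 1) (by rw [Nat.card_zpowers, Subgroup.orderOf_mk, hx, pow_one]) :
    IsPGroup 2 (Subgroup.zpowers (⟨x, hxM⟩ : M))).exists_le_sylow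
  obtain ⟨g, hg⟩ := MulAction.exists_smul_eq M Q P'
  have hy : g * (⟨x, hxM⟩ : M) * g⁻¹ ∈ (P' : Subgroup M) := by
    rw [← hg]
    exact ⟨_, hQ (Subgroup.mem_zpowers _), rfl⟩
  set y : M := g * (⟨x, hxM⟩ : M) * g⁻¹ with hy0
  by_cases hyT : (y : G) ∈ T
  · exact ⟨g, g.2, hyT⟩
  set Q' := ((P : Subgroup G) ⊓ T).subgroupOf M with hQ'
  have hQP : Q' ≤ (P' : Subgroup M) := fun z hz => hz.1
  have hidx : Q'.relIndex (P' : Subgroup M) = 2 := by
    have h1 := Subgroup.relIndex_mul_relIndex (⊥ : Subgroup M) Q' (P' : Subgroup M) bot_le hQP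
    have c1 : Nat.card Q' = Nat.card ((P : Subgroup G) ⊓ T : Subgroup G) :=
      Nat.card_congr (Subgroup.subgroupOfEquivOfLe (inf_le_left.trans hs.le)).toEquiv
    have c2 : Nat.card (P' : Subgroup M) = Nat.card (P : Subgroup G) :=
      Nat.card_congr (Subgroup.subgroupOfEquivOfLe hs.le).toEquiv
    rw [Subgroup.relIndex_bot_left, Subgroup.relIndex_bot_left, c1, c2, h.card_inf P hJ hP, mul_comm 2] at h1
    exact Nat.eq_of_mul_eq_mul_left Nat.card_pos h1
  have hyo : orderOf y = 2 := by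
    rw [hy0, show g * (⟨x, hxM⟩ : M) * g⁻¹ = MulAut.conj g ⟨x, hxM⟩ from rfl, MulEquiv.orderOf_eq,
      Subgroup.orderOf_mk, hx]
  rcases Cfsg.Agent.S0111.result P' Q' hQP hidx y hyo hy (fun hh => hyT hh.2) with ⟨N, hN, hN2, -⟩ | ⟨k, hk⟩
  · exfalso
    rcases hN.eq_bot_or_eq_top with e | e
    · rw [e, Subgroup.index_bot] at hN2
      have := Subgroup.card_dvd_of_le (hs.le : (P : Subgroup G) ≤ M)
      rw [(h.sylow_facts P hJ hP).1, hN2] at this
      omega
    · rw [e, Subgroup.index_top] at hN2; omega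
  · refine ⟨(k * g : M), (k * g).2, ?_⟩
    have h2 : ((k * y * k⁻¹ : M) : G) ∈ T := hk.2
    rw [hy0] at h2
    simpa [mul_assoc] using h2

theorem socle_eq_top (h : Data J T 5) {P : Sylow 2 G} {M : Subgroup G} (hJ : J ∈ (P : Subgroup G))
    (hP : (P : Subgroup G) ≤ Subgroup.centralizer ({J} : Set G))
    (hs : Socle J M P) : M = ⊤ := by
  rw [eq_top_iff]
  intro g _
  have hC := h.C_le_socle hJ hs
  have hTM : T ≤ M := h.T_le.trans hC
  have hJM : J ∈ M := hs.le hJ
  obtain ⟨a, ha, haT⟩ := h.fused_in_socle hJ hP hs h.ord hJM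
  have hgo : orderOf (g * J * g⁻¹) = 2 := by
    rw [show g * J * g⁻¹ = MulAut.conj g J from rfl, MulEquiv.orderOf_eq, h.ord]
  obtain ⟨b, hb, hbT⟩ := h.fused_in_socle hJ hP hs hgo (hs.normal.conj_mem J hJM g)
  obtain ⟨c, hc, hcab⟩ := h.model_fuse hbT haT
    (by rw [show b * (g * J * g⁻¹) * b⁻¹ = MulAut.conj b (g * J * g⁻¹) from rfl, MulEquiv.orderOf_eq, hgo])
    (by rw [show a * J * a⁻¹ = MulAut.conj a J from rfl, MulEquiv.orderOf_eq, h.ord])
  have hk : a⁻¹ * c * b * g ∈ Subgroup.centralizer ({J} : Set G) := by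
    rw [Subgroup.mem_centralizer_singleton_iff]
    calc a⁻¹ * c * b * g * J = a⁻¹ * (c * (b * (g * J * g⁻¹) * b⁻¹) * c⁻¹) * c * b * g := by group
      _ = J * (a⁻¹ * c * b * g) := by rw [hcab]; group
  exact (M.mul_mem_cancel_left (mul_mem (mul_mem (inv_mem ha) (hTM hc)) hb)).1 (hC hk)

theorem isoJ1 (h : Data J T 5) (hns : ¬ Group.IsSolvable G) : Cfsg.Spor.IsoJ1 G := by
  haveI : Fact (Nat.Prime 2) := ⟨Nat.prime_two⟩
  obtain ⟨P, M, hJ, hP, hs⟩ := h.exists_socle hns
  haveI : IsSimpleGroup G := by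
    haveI := hs.simple
    exact ((MulEquiv.subgroupCongr (h.socle_eq_top hJ hP hs)).trans Subgroup.topEquiv).symm.isSimpleGroup
  obtain ⟨h8, hsq⟩ := h.sylow_facts P hJ hP
  have hab : IsMulCommutative (P : Subgroup G) := ⟨⟨fun a b => Subtype.ext (by
    have hi : ∀ x ∈ (P : Subgroup G), x⁻¹ = x := fun x hx => inv_eq_of_mul_eq_one_right (hsq x hx)
    show (a : G) * b = b * a
    calc (a : G) * b = ((a : G) * b)⁻¹ := (hi _ (mul_mem a.2 b.2)).symm
      _ = b * a := by rw [mul_inv_rev, hi _ a.2, hi _ b.2])⟩⟩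
  obtain ⟨e⟩ := h.iso
  let z : Multiplicative (ZMod 2) → G := fun z => if z = 1 then 1 else J
  have hz : ∀ a b, z (a * b) = z a * z b := by
    intro a b
    rcases two_key a b with ⟨ha, hab⟩ | ⟨ha, hab⟩ <;> by_cases hb : b = 1 <;>
      simp [z, ha, hb, hab, h.sq]
  have hzC : ∀ a, z a ∈ Subgroup.centralizer ({J} : Set G) := fun a => by
    simp only [z]
    split_ifs
    exacts [one_mem _, Subgroup.mem_centralizer_singleton_iff.2 rfl]
  let f : Multiplicative (ZMod 2) × alternatingGroup (Fin 5) →* Subgroup.centralizer ({J} : Set G) :=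
    MonoidHom.mk' (fun p => ⟨z p.1 * (e.symm p.2 : T), mul_mem (hzC _) (h.T_le (e.symm p.2).2)⟩) (by
      intro p q
      refine Subtype.ext ?_
      show z (p.1 * q.1) * ((e.symm (p.2 * q.2) : T) : G) =
        z p.1 * ((e.symm p.2 : T) : G) * (z q.1 * ((e.symm q.2 : T) : G))
      rw [hz, map_mul, Subgroup.coe_mul]
      have hcm : z q.1 * ((e.symm p.2 : T) : G) = ((e.symm p.2 : T) : G) * z q.1 := by
        simp only [z]
        split_ifs
        · rw [one_mul, mul_one]
        · exact h.comm (e.symm p.2).2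
      calc z p.1 * z q.1 * (((e.symm p.2 : T) : G) * ((e.symm q.2 : T) : G))
          = z p.1 * (z q.1 * ((e.symm p.2 : T) : G)) * ((e.symm q.2 : T) : G) := by group
        _ = _ := by rw [hcm]; group)
  have hinj : Function.Injective f := by
    rw [injective_iff_map_eq_one]
    rintro ⟨a, b⟩ hab'
    have h1 : z a * ((e.symm b : T) : G) = 1 := congrArg Subtype.val hab'
    by_cases ha : a = 1
    · simp only [z, ha, if_true, one_mul] at h1
      have : (e.symm b : T) = 1 := Subtype.ext h1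
      rw [EmbeddingLike.map_eq_one_iff] at this
      exact Prod.ext ha this
    · simp only [z, ha, if_false] at h1
      refine absurd ?_ h.notMem
      rw [mul_eq_one_iff_eq_inv.1 h1]
      exact inv_mem (e.symm b).2
  have hbij : Function.Bijective f := hinj.bijective_of_nat_card_le (by
    rw [h.card_C, Nat.card_congr e.toEquiv, Nat.card_prod]
    simp)
  exact Cfsg.Agent.S1644.result P hab h8 J h.ord (MulEquiv.ofBijective f hbij).symm

end Data

end Cfsg.Agent.CentAlt
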