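import Cfsg.Agent.Lib.CentAlt.Main
import Cfsg.Agent.Lib.FourCentralSylow.Sixteen
import Cfsg.Agent.S3189
import Cfsg.Agent.S1230
import Cfsg.Agent.S0813
import Cfsg.Agent.Lib.Classical.SL

/-!
Degree four: the group is the automorphism group of PSL(2,8).
-/

set_option autoImplicit false
set_option linter.style.haveILetI false
set_option linter.unusedSectionVars false

namespace Cfsg.Agent.CentAlt

universe u

theorem center_eq_bot_of_simple {M : Type*} [Group M] (hs : IsSimpleGroup M) (hna : ¬ IsMulCommutative M) :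
    Subgroup.center M = ⊥ := by
  rcases (inferInstance : (Subgroup.center M).Normal).eq_bot_or_eq_top with e | e
  · exact e
  · exact absurd ⟨⟨fun a b => (Subgroup.mem_center_iff.1 (e ▸ Subgroup.mem_top a) b).symm⟩⟩ hna

variable {G : Type u} [Group G] [Finite G] {J : G} {T : Subgroup G}

theorem mem_centralizer_conj {g y : G} :
    g ∈ Subgroup.centralizer ({y} : Set G) ↔ g * y = y * g := Subgroup.mem_centralizer_singleton_iff

namespace Data

variable {P : Sylow 2 G} {M : Subgroup G}

theorem normal_in_C (h : Data J T 4) (hJ : J ∈ (P : Subgroup G))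
    (hP : (P : Subgroup G) ≤ Subgroup.centralizer ({J} : Set G)) {x : G} (hxJ : x * J = J * x) (hx : x * x = 1) :
    x ∈ (P : Subgroup G) := by
  obtain ⟨e⟩ := h.iso
  have modelsq : ∀ {t : G} (ht : t ∈ T), t * t = 1 → e ⟨t, ht⟩ * e ⟨t, ht⟩ = 1 := by
    intro t ht h2
    rw [← map_mul, ← e.map_one]; congr 1
    exact Subtype.ext h2
  have Jmul : ∀ t, t * J = J * t → J * t * (J * t) = t * t := fun t ht => by
    rw [show J * t * (J * t) = J * (t * J) * t by group, ht, ← mul_assoc J J t, h.sq, one_mul]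
  have tsq : ∀ s t : G, s ∈ T → t ∈ T → s * s = 1 → t * t = 1 → s * t * (s * t) = 1 := by
    intro s t hs ht s2 t2
    have := congrArg e.symm (klein_four _ _ (modelsq hs s2) (modelsq ht t2))
    rw [← map_mul, ← map_mul, e.symm_apply_apply, map_one] at this
    exact congrArg Subtype.val this
  let U : Subgroup G :=
    { carrier := {c | c * J = J * c ∧ c * c = 1}
      one_mem' := ⟨by rw [one_mul, mul_one], one_mul 1⟩
      mul_mem' := by
        rintro a b ⟨ha, ha2⟩ ⟨hb, hb2⟩
        have hab : a * b * J = J * (a * b) := by rw [mul_assoc, hb, ← mul_assoc, ha, mul_assoc]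
        refine ⟨hab, ?_⟩
        have tJ : ∀ {t : G}, t * J = J * t → J * t * J = J * (J * t) := fun {t} ht => by
          rw [mul_assoc, ht]
        rcases h.split ha with a' | a' <;> rcases h.split hb with b' | b'
        · exact tsq a b a' b' ha2 hb2
        · have := tsq a (J * b) a' b' ha2 (by rw [Jmul b hb, hb2])
          rw [show a * (J * b) = J * (a * b) by rw [← mul_assoc, ha, mul_assoc], Jmul _ hab] at this
          exact this
        · have := tsq (J * a) b a' b' (by rw [Jmul a ha, ha2]) hb2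
          rw [mul_assoc J a b, Jmul _ hab] at this
          exact this
        · have := tsq (J * a) (J * b) a' b' (by rw [Jmul a ha, ha2]) (by rw [Jmul b hb, hb2])
          rw [show J * a * (J * b) = a * b by
            rw [← mul_assoc, mul_assoc J a J, ha, ← mul_assoc J J a, h.sq, one_mul]] at this
          exact this
      inv_mem' := by
        rintro a ⟨ha, ha2⟩
        rw [Set.mem_setOf_eq, inv_eq_of_mul_eq_one_right ha2]
        exact ⟨ha, ha2⟩ }
  have hU : IsPGroup 2 U := fun c => ⟨1, Subtype.ext (by simpa [pow_two] using c.2.2)⟩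
  have hPU : (P : Subgroup G) ≤ U := fun c hc =>
    ⟨Subgroup.mem_centralizer_singleton_iff.1 (hP hc), (h.sylow_facts P hJ hP).2 c hc⟩
  have := P.is_maximal' hU hPU
  exact this.le ⟨hxJ, hx⟩

theorem cent_socle (h : Data J T 4) (hJ : J ∈ (P : Subgroup G))
    (hP : (P : Subgroup G) ≤ Subgroup.centralizer ({J} : Set G)) (hs : Socle J M P) :
    M ⊓ Subgroup.centralizer ({J} : Set G) = (P : Subgroup G) := by
  haveI : Fact (Nat.Prime 2) := ⟨Nat.prime_two⟩
  haveI := hs.simple
  obtain ⟨h8, hsq⟩ := h.sylow_facts P hJ hP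
  set D := M ⊓ Subgroup.centralizer ({J} : Set G) with hD
  have hPD : (P : Subgroup G) ≤ D := le_inf hs.le hP
  have hC24 : Nat.card (Subgroup.centralizer ({J} : Set G)) = 24 := by
    obtain ⟨e⟩ := h.iso
    rw [h.card_C, Nat.card_congr e.toEquiv, card_four]
  refine (Subgroup.eq_of_le_of_card_ge hPD ?_).symm
  by_contra hgt
  have h24 : Nat.card D ∣ 24 := hC24 ▸ Subgroup.card_dvd_of_le (inf_le_right : D ≤ _)
  have h8D : 8 ∣ Nat.card D := h8 ▸ Subgroup.card_dvd_of_le hPD
  have hDC : D = Subgroup.centralizer ({J} : Set G) := by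
    refine Subgroup.eq_of_le_of_card_ge inf_le_right ?_
    obtain ⟨q, hq⟩ := h8D
    rw [hq] at h24 hgt ⊢
    have hq3 : q ∣ 3 := (Nat.mul_dvd_mul_iff_left (by norm_num : 0 < 8)).1 (show 8 * q ∣ 8 * 3 from h24)
    rcases (Nat.dvd_prime Nat.prime_three).1 hq3 with e | e <;> omega
  have hCM : Subgroup.centralizer ({J} : Set G) ≤ M := hDC ▸ inf_le_left
  have hCsol : Group.IsSolvable (Subgroup.centralizer ({J} : Set G)) := by
    haveI : ((P : Subgroup G).subgroupOf (Subgroup.centralizer ({J} : Set G))).Normal := by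
      refine ⟨fun p hp c => ?_⟩
      rw [Subgroup.mem_subgroupOf] at hp ⊢
      push_cast
      refine h.normal_in_C hJ hP ?_ ?_
      · exact Subgroup.mem_centralizer_singleton_iff.1 (mul_mem (mul_mem c.2 (hP hp)) (inv_mem c.2))
      · rw [show (c : G) * p * (c : G)⁻¹ * ((c : G) * p * (c : G)⁻¹) = (c : G) * ((p : G) * p) * (c : G)⁻¹ by
          group, hsq _ hp]
        group
    set Q := (P : Subgroup G).subgroupOf (Subgroup.centralizer ({J} : Set G)) with hQ
    have hQ8 : Nat.card Q = 8 := (Nat.card_congr (Subgroup.subgroupOfEquivOfLe hP).toEquiv).trans h8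
    haveI : Group.IsSolvable Q := by
      haveI := (IsPGroup.of_card (n := 3) (by rw [hQ8]; norm_num) : IsPGroup 2 Q).isNilpotent
      infer_instance
    have h3 : Nat.card (Subgroup.centralizer ({J} : Set G) ⧸ Q) = 3 := by
      have := Q.card_eq_card_quotient_mul_card_subgroup
      rw [hQ8, hC24] at this
      omega
    haveI : Group.IsSolvable (Subgroup.centralizer ({J} : Set G) ⧸ Q) :=
      OddChar.oddSolvable.{u} _ (by rw [h3]; decide)
    exact Group.isSolvable_of_ker_le_range Q.subtype (QuotientGroup.mk' Q)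
      (by rw [QuotientGroup.ker_mk', Subgroup.range_subtype])
  -- the involution centralisers of the socle are solvable
  set P' := P.subtype hs.le with hP'
  have hP'sq : ∀ a ∈ (P' : Subgroup M), a * a = 1 := fun a ha => Subtype.ext (hsq a ha)
  have hP'el : Cfsg.IsElementaryAbelian 2 (P' : Subgroup M) := by
    refine ⟨⟨⟨fun a b => Subtype.ext ?_⟩⟩, fun a ha => by rw [pow_two]; exact hP'sq a ha⟩
    have hi : ∀ x ∈ (P' : Subgroup M), x⁻¹ = x := fun x hx => inv_eq_of_mul_eq_one_right (hP'sq x hx)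
    show (a : M) * b = b * a
    calc (a : M) * b = ((a : M) * b)⁻¹ := (hi _ (mul_mem a.2 b.2)).symm
      _ = b * a := by rw [mul_inv_rev, hi _ a.2, hi _ b.2]
  have hrel := Cfsg.Agent.S3189.result hs.nonab P' hP'el
    ((Nat.card_congr (Subgroup.subgroupOfEquivOfLe hs.le).toEquiv).trans h8) (fun t ht => by
      obtain ⟨g, hg⟩ := h.one_class (by rwa [Subgroup.orderOf_coe] : orderOf (t : G) = 2) h.ord
      haveI := hCsol
      let φ : Subgroup.centralizer ({t} : Set M) →* Subgroup.centralizer ({J} : Set G) :=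
        MonoidHom.mk' (fun c => ⟨g * (c : M) * g⁻¹, by
          rw [Subgroup.mem_centralizer_singleton_iff, ← hg]
          have hc : ((c : M) : G) * t = t * (c : M) :=
            congrArg Subtype.val (Subgroup.mem_centralizer_singleton_iff.1 c.2)
          calc g * ((c : M) : G) * g⁻¹ * (g * t * g⁻¹) = g * (((c : M) : G) * t) * g⁻¹ := by group
            _ = g * t * g⁻¹ * (g * (c : M) * g⁻¹) := by rw [hc]; group⟩) (fun a b => Subtype.ext (by
          show g * (((a : M) : G) * (b : M)) * g⁻¹ = g * (a : M) * g⁻¹ * (g * (b : M) * g⁻¹)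
          group))
      refine Group.isSolvable_of_isSolvable_injective (f := φ) fun a b e => ?_
      have e' : g * ((a : M) : G) * g⁻¹ = g * (b : M) * g⁻¹ := congrArg Subtype.val e
      exact Subtype.ext (Subtype.ext (mul_left_cancel (mul_right_cancel e'))))
  obtain ⟨e⟩ := h.iso
  obtain ⟨c, v, hc3, hv, hne⟩ := mover_four
  have hcT : (((e.symm c : T) : G)) ∈ Subgroup.centralizer ({J} : Set G) := h.T_le (e.symm c).2
  have hvP : (((e.symm v : T) : G)) ∈ (P : Subgroup G) :=
    h.normal_in_C hJ hP (h.comm (e.symm v).2).symm (by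
      rw [← Subgroup.coe_mul, ← map_mul, hv, map_one, Subgroup.coe_one])
  set c' : M := ⟨_, hCM hcT⟩ with hc'
  have hc'N : c' ∈ Subgroup.normalizer ((P' : Subgroup M) : Set M) := by
    have key : ∀ d : G, d ∈ Subgroup.centralizer ({J} : Set G) → ∀ p ∈ (P : Subgroup G),
        d * p * d⁻¹ ∈ (P : Subgroup G) := fun d hd p hp =>
      h.normal_in_C hJ hP (Subgroup.mem_centralizer_singleton_iff.1 (mul_mem (mul_mem hd (hP hp)) (inv_mem hd)))
        (by rw [show d * p * d⁻¹ * (d * p * d⁻¹) = d * (p * p) * d⁻¹ by group, hsq p hp]; group)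
    refine Subgroup.mem_normalizer_iff.2 fun p => ⟨fun hp => key _ hcT _ hp, fun hp => ?_⟩
    have := key _ (inv_mem hcT) _ hp
    show (p : G) ∈ (P : Subgroup G)
    simpa [hc', mul_assoc] using this
  set N := Subgroup.normalizer ((P' : Subgroup M) : Set M) with hN
  set Z := (Subgroup.centralizer ((P' : Subgroup M) : Set M)).subgroupOf N with hZ
  haveI : Z.Normal := Subgroup.normal_subgroupOf_centralizer_normalizer _
  have h7 : (⟨c', hc'N⟩ : N) ^ 7 ∈ Z := by
    have hZi : Z.index = 7 := hrel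
    rw [← hZi]
    exact Z.pow_index_mem _
  have hc7 : (⟨c', hc'N⟩ : N) ^ 7 = ⟨c', hc'N⟩ := by
    refine Subtype.ext (Subtype.ext ?_)
    show (((e.symm c : T) : G)) ^ 7 = ((e.symm c : T) : G)
    have h3 : (((e.symm c : T) : G)) ^ 3 = 1 := by
      rw [← Subgroup.coe_pow, ← map_pow, show c ^ 3 = 1 by rw [pow_succ, pow_two]; exact hc3, map_one,
        Subgroup.coe_one]
    rw [show (7 : ℕ) = 3 * 2 + 1 from rfl, pow_succ, pow_mul, h3, one_pow, one_mul]
  rw [hc7] at h7
  have hcomm := Subgroup.mem_centralizer_iff.1 (Subgroup.mem_subgroupOf.1 h7) ⟨_, hs.le hvP⟩ hvP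
  apply hne
  have h' : ((e.symm v : T) : G) * (e.symm c : T) = (e.symm c : T) * (e.symm v : T) := congrArg Subtype.val hcomm
  have h'' : e.symm (v * c) = e.symm (c * v) := by
    rw [map_mul, map_mul]; exact Subtype.ext h'
  exact (e.symm.injective h'').symm

theorem psl_aut (h : Data J T 4) (hns : ¬ Group.IsSolvable G) :
    ∃ (F : Type) (_ : Field F) (_ : Fintype F), Fintype.card F = 8 ∧
      Nonempty (G ≃* MulAut (Matrix.ProjectiveSpecialLinearGroup (Fin 2) F)) := by
  classical
  haveI : Fact (Nat.Prime 2) := ⟨Nat.prime_two⟩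
  obtain ⟨P, M, hJ, hP, hs⟩ := h.exists_socle hns
  haveI := hs.simple
  haveI := hs.normal
  obtain ⟨h8, hsq⟩ := h.sylow_facts P hJ hP
  have hMC := h.cent_socle hJ hP hs
  set P' := P.subtype hs.le with hP'
  have hP'8 : Nat.card (P' : Subgroup M) = 8 :=
    (Nat.card_congr (Subgroup.subgroupOfEquivOfLe hs.le).toEquiv).trans h8
  have hnc : ¬ IsCyclic (P' : Subgroup M) := fun hc => by
    haveI := hc
    obtain ⟨a, ha⟩ := IsCyclic.exists_ofOrder_eq_natCard (α := (P' : Subgroup M))
    rw [hP'8] at ha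
    have h2 : orderOf a ∣ 2 := orderOf_dvd_of_pow_eq_one (by
      rw [pow_two]; exact Subtype.ext (Subtype.ext (hsq _ a.2)))
    rw [ha] at h2
    exact absurd h2 (by decide)
  have hnn : ¬ (P' : Subgroup M).Normal := fun hn => by
    rcases hn.eq_bot_or_eq_top with e | e
    · rw [e, Subgroup.card_bot] at hP'8; omega
    · refine hs.nonab ⟨⟨fun a b => ?_⟩⟩
      have ha : ∀ x : M, x * x = 1 := fun x => by
        have hx : x ∈ (P' : Subgroup M) := by rw [e]; trivial
        exact Subtype.ext (hsq _ hx)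
      have hi : ∀ x : M, x⁻¹ = x := fun x => inv_eq_of_mul_eq_one_right (ha x)
      calc a * b = (a * b)⁻¹ := (hi _).symm
        _ = b * a := by rw [mul_inv_rev, hi, hi]
  obtain ⟨F, hF, hFt, hF8, ⟨eM⟩⟩ := Cfsg.Agent.S1230.result P' hnc hnn (fun t ht => by
    obtain ⟨g, hg⟩ := h.one_class (by rwa [Subgroup.orderOf_coe] : orderOf (t : G) = 2) h.ord
    have key : ∀ c ∈ Subgroup.centralizer ({t} : Set M), g * (c : G) * g⁻¹ ∈ (P : Subgroup G) := fun c hc => by
      rw [← hMC]
      refine ⟨hs.normal.conj_mem _ c.2 g, Subgroup.mem_centralizer_singleton_iff.2 ?_⟩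
      rw [← hg]
      have hc' : (c : G) * t = t * c := congrArg Subtype.val (Subgroup.mem_centralizer_singleton_iff.1 hc)
      calc g * (c : G) * g⁻¹ * (g * t * g⁻¹) = g * ((c : G) * t) * g⁻¹ := by group
        _ = g * t * g⁻¹ * (g * c * g⁻¹) := by rw [hc']; group
    have sqc : ∀ c ∈ Subgroup.centralizer ({t} : Set M), c * c = 1 := fun c hc => by
      have := hsq _ (key c hc)
      refine Subtype.ext (?_ : (c : G) * c = 1)
      rw [show g * (c : G) * g⁻¹ * (g * c * g⁻¹) = g * ((c : G) * c) * g⁻¹ by group] at this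
      exact conj_eq_one_iff.1 this
    refine ⟨⟨⟨fun a b => Subtype.ext ?_⟩⟩, fun c hc => by rw [pow_two]; exact sqc c hc⟩
    have hi : ∀ x ∈ Subgroup.centralizer ({t} : Set M), x⁻¹ = x := fun x hx => inv_eq_of_mul_eq_one_right (sqc x hx)
    show (a : M) * b = b * a
    calc (a : M) * b = ((a : M) * b)⁻¹ := (hi _ (mul_mem a.2 b.2)).symm
      _ = b * a := by rw [mul_inv_rev, hi _ a.2, hi _ b.2])
  rw [hP'8] at hF8
  refine ⟨F, hF, hFt, hF8, ?_⟩
  letI := hF
  letI := hFt
  -- the action on the socle is faithful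
  let φ : G →* MulAut (Matrix.ProjectiveSpecialLinearGroup (Fin 2) F) :=
    (MulAut.congr eM).toMonoidHom.comp MulAut.conjNormal
  have hker : φ.ker = ⊥ := by
    refine h.odd_normal_trivial (MonoidHom.normal_ker φ) ?_
    rw [← Nat.not_even_iff_odd, even_iff_two_dvd]
    intro h2
    obtain ⟨⟨y, hy⟩, hy2⟩ := exists_prime_orderOf_dvd_card' 2 h2
    rw [Subgroup.orderOf_mk] at hy2
    obtain ⟨g, hg⟩ := h.one_class hy2 h.ord
    have hJK : J ∈ φ.ker := hg ▸ (MonoidHom.normal_ker φ).conj_mem y hy g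
    have hfix : (MulAut.conjNormal J : MulAut M) = 1 := by
      have : MulAut.congr eM (MulAut.conjNormal J : MulAut M) = 1 := MonoidHom.mem_ker.1 hJK
      exact (MulEquiv.map_eq_one_iff _).1 this
    have hmem : (⟨J, hs.le hJ⟩ : M) ∈ Subgroup.center M := by
      rw [Subgroup.mem_center_iff]
      intro a
      refine Subtype.ext ?_
      have h' : J * (a : G) * J⁻¹ = a := by
        rw [← MulAut.conjNormal_apply J a, hfix]; rfl
      show (a : G) * J = J * a
      exact (mul_inv_eq_iff_eq_mul.1 h').symm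
    rw [center_eq_bot_of_simple hs.simple hs.nonab, Subgroup.mem_bot] at hmem
    exact h.ne_one (congrArg Subtype.val hmem)
  have hinj : Function.Injective φ := (MonoidHom.ker_eq_bot_iff φ).1 hker
  have hlow : 3 * Nat.card M ≤ Nat.card G := by
    have h1 := FourCentralSylow.card_mul_le (S := (⊤ : Subgroup G)) (le_top : M ≤ ⊤)
      (le_top : Subgroup.centralizer ({J} : Set G) ≤ ⊤)
    obtain ⟨e⟩ := h.iso
    rw [hMC, h8, h.card_C, Nat.card_congr e.toEquiv, card_four, Subgroup.card_top] at h1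
    omega
  have hup : Nat.card (MulAut (Matrix.ProjectiveSpecialLinearGroup (Fin 2) F)) = 3 * Nat.card M := by
    rw [Cfsg.Agent.S0813.result 2 3 (by norm_num) (by rw [hF8]; norm_num) 2 le_rfl (fun _ => by norm_num),
      if_pos rfl, one_mul, Nat.card_congr eM.toEquiv]
    have hFn : Nat.card F = 8 := by rw [Nat.card_eq_fintype_card, hF8]
    have a1 := ClassicalSL.card_psl_mul (ι := Fin 2) (F := F)
    have a2 := ClassicalSL.card_sl_mul (ι := Fin 2) (F := F)
    rw [hFn, Fintype.card_fin] at a1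
    rw [hFn] at a2
    norm_num [← Nat.card_eq_fintype_card] at a1 a2
    rw [ClassicalSL.card_pgl]
    omega
  haveI : Finite (MulAut (Matrix.ProjectiveSpecialLinearGroup (Fin 2) F)) := inferInstance
  exact ⟨MulEquiv.ofBijective φ (hinj.bijective_of_nat_card_le (by rw [hup]; exact hlow))⟩

end Data

end Cfsg.Agent.CentAlt
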