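import Cfsg.Agent.Lib.CentAlt.Basic
import Cfsg.Agent.Lib.CentAlt.Facts
import Cfsg.Agent.S0721
import Cfsg.Prelude.Def_TwoFusion
import Mathlib.GroupTheory.Transfer

/-!
Degree four and five: Sylow 2-subgroups of order eight, one class of involutions, trivial odd core and
a simple normal subgroup of odd index.
-/

set_option autoImplicit false
set_option linter.style.haveILetI false
set_option linter.unusedSectionVars false

namespace Cfsg.Agent.CentAlt

universe u

variable {G : Type u} [Group G] [Finite G]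

/-- A fixed-point-free involutory automorphism of a finite subgroup inverts it. -/
theorem inverts {N : Subgroup G} {x : G} (hx : x * x = 1) (hnorm : ∀ n ∈ N, x * n * x⁻¹ ∈ N)
    (hfpf : ∀ n ∈ N, n * x = x * n → n = 1) {n : G} (hn : n ∈ N) : x * n * x⁻¹ = n⁻¹ := by
  let f : N → N := fun k => ⟨(k : G)⁻¹ * (x * k * x⁻¹), mul_mem (inv_mem k.2) (hnorm k k.2)⟩
  have hinj : Function.Injective f := by
    intro a b e
    have e' : (a : G)⁻¹ * (x * a * x⁻¹) = (b : G)⁻¹ * (x * b * x⁻¹) := congrArg Subtype.val e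
    have h1 : ((b : G) * (a : G)⁻¹) * x = x * ((b : G) * (a : G)⁻¹) := by
      calc ((b : G) * (a : G)⁻¹) * x = b * ((a : G)⁻¹ * (x * a * x⁻¹)) * x * (a : G)⁻¹ := by group
        _ = x * ((b : G) * (a : G)⁻¹) := by rw [e']; group
    exact Subtype.ext (mul_inv_eq_one.1 (hfpf _ (mul_mem b.2 (inv_mem a.2)) h1)).symm
  obtain ⟨k, hk⟩ := Finite.surjective_of_injective hinj ⟨n, hn⟩
  have hk' : (k : G)⁻¹ * (x * k * x⁻¹) = n := congrArg Subtype.val hk
  rw [← hk']
  calc x * ((k : G)⁻¹ * (x * k * x⁻¹)) * x⁻¹ = x * (k : G)⁻¹ * (x * k) * (x * x)⁻¹ := by group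
    _ = x * (k : G)⁻¹ * x⁻¹ * k := by
        rw [hx, inv_one, mul_one, show x * (k : G) = x⁻¹ * k by rw [inv_eq_of_mul_eq_one_right hx]]
        group
    _ = ((k : G)⁻¹ * (x * k * x⁻¹))⁻¹ := by group

namespace Data

variable {J : G} {T : Subgroup G} {m : ℕ}

theorem small (h : Data J T m) : m = 4 ∨ m = 5 := by
  have := h.four_le; have := h.le_five; omega

theorem card_T (h : Data J T m) : Nat.card T = 12 ∨ Nat.card T = 60 := by
  obtain ⟨e⟩ := h.iso
  rw [Nat.card_congr e.toEquiv]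
  rcases h.small with rfl | rfl
  · exact Or.inl card_four
  · exact Or.inr card_five

theorem card_C (h : Data J T m) :
    Nat.card (Subgroup.centralizer ({J} : Set G)) = 2 * Nat.card T := by
  let f : Fin 2 × T → Subgroup.centralizer ({J} : Set G) := fun p =>
    ⟨(if p.1 = 0 then 1 else J) * p.2.1, mul_mem (by
      split_ifs
      exacts [one_mem _, Subgroup.mem_centralizer_singleton_iff.2 rfl]) (h.T_le p.2.2)⟩
  have hinj : Function.Injective f := by
    rintro ⟨i, a⟩ ⟨j, b⟩ e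
    have e' : (if i = 0 then 1 else J) * a.1 = (if j = 0 then 1 else J) * b.1 := congrArg Subtype.val e
    fin_cases i <;> fin_cases j <;> simp at e'
    · exact Prod.ext rfl e'
    · exact absurd ((T.mul_mem_cancel_right b.2).1 (e' ▸ a.2)) h.notMem
    · exact absurd ((T.mul_mem_cancel_right a.2).1 (e'.symm ▸ b.2)) h.notMem
    · exact Prod.ext rfl e'
  have hsurj : Function.Surjective f := by
    rintro ⟨p, hp⟩
    rcases h.split (Subgroup.mem_centralizer_singleton_iff.1 hp) with h' | h'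
    · exact ⟨(0, ⟨p, h'⟩), Subtype.ext (one_mul p)⟩
    · refine ⟨(1, ⟨J * p, h'⟩), Subtype.ext ?_⟩
      simp [f, ← mul_assoc, h.sq]
  have := Nat.card_eq_of_bijective f ⟨hinj, hsurj⟩
  rw [Nat.card_prod, Nat.card_fin] at this
  exact this.symm

theorem model_sq (h : Data J T m) {t : G} (ht : t ∈ T) (h4 : t ^ 4 = 1) : t * t = 1 := by
  obtain ⟨e⟩ := h.iso
  have h' : (⟨t, ht⟩ : T) * ⟨t, ht⟩ = 1 := by
    apply e.injective
    rw [map_mul, map_one]
    have : e ⟨t, ht⟩ ^ 4 = 1 := by rw [← map_pow, ← e.map_one]; congr 1; exact Subtype.ext h4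
    rcases h.small with rfl | rfl
    · exact sq_four _ this
    · exact sq_five _ this
  exact congrArg Subtype.val h'

theorem model_fuse (h : Data J T m) {a b : G} (ha : a ∈ T) (hb : b ∈ T) (ha2 : orderOf a = 2)
    (hb2 : orderOf b = 2) : ∃ c ∈ T, c * a * c⁻¹ = b := by
  obtain ⟨e⟩ := h.iso
  have sq1 : ∀ {x : G} (hx : x ∈ T), orderOf x = 2 → e ⟨x, hx⟩ * e ⟨x, hx⟩ = 1 ∧ e ⟨x, hx⟩ ≠ 1 := by
    intro x hx h2
    refine ⟨?_, fun he => ?_⟩
    · rw [← map_mul, ← e.map_one]; congr 1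
      exact Subtype.ext (show x * x = 1 by rw [← pow_two, ← h2, pow_orderOf_eq_one])
    · rw [EmbeddingLike.map_eq_one_iff] at he
      rw [show x = 1 from congrArg Subtype.val he, orderOf_one] at h2
      omega
  obtain ⟨a1, a2⟩ := sq1 ha ha2
  obtain ⟨b1, b2⟩ := sq1 hb hb2
  obtain ⟨c, hc⟩ : ∃ c, c * e ⟨a, ha⟩ * c⁻¹ = e ⟨b, hb⟩ := by
    rcases h.small with rfl | rfl
    · exact fuse_four _ _ a1 b1 a2 b2
    · exact fuse_five _ _ a1 b1 a2 b2
  refine ⟨(e.symm c : G), (e.symm c).2, ?_⟩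
  have := congrArg e.symm hc
  rw [map_mul, map_mul, map_inv, e.symm_apply_apply, e.symm_apply_apply] at this
  exact congrArg Subtype.val this

theorem sylow_facts (h : Data J T m) (P : Sylow 2 G) (hJ : J ∈ (P : Subgroup G))
    (hP : (P : Subgroup G) ≤ Subgroup.centralizer ({J} : Set G)) :
    Nat.card (P : Subgroup G) = 8 ∧ ∀ x ∈ (P : Subgroup G), x * x = 1 := by
  haveI : Fact (Nat.Prime 2) := ⟨Nat.prime_two⟩
  obtain ⟨k, hk⟩ := IsPGroup.iff_card.1 P.isPGroup'
  have hd : Nat.card (P : Subgroup G) ∣ 2 * Nat.card T := h.card_C ▸ Subgroup.card_dvd_of_le hP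
  have hnd := (P.subtype hP).not_dvd_index
  have hmul := Subgroup.card_mul_index ((P.subtype hP : Sylow 2 _) : Subgroup (Subgroup.centralizer ({J} : Set G)))
  have hc : Nat.card ((P.subtype hP : Sylow 2 _) : Subgroup (Subgroup.centralizer ({J} : Set G))) =
      Nat.card (P : Subgroup G) := Nat.card_congr (Subgroup.subgroupOfEquivOfLe hP).toEquiv
  rw [hc, h.card_C] at hmul
  have h8 : Nat.card (P : Subgroup G) = 8 := by
    rw [hk] at hmul hd ⊢
    have h120 : 2 ^ k ≤ 120 := (Nat.le_of_dvd (by rcases h.card_T with e | e <;> omega) hd).trans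
      (by rcases h.card_T with e | e <;> omega)
    have hk7 : k < 7 := (Nat.pow_lt_pow_iff_right one_lt_two).1 (h120.trans_lt (by norm_num))
    rcases h.card_T with e | e <;> rw [e] at hmul <;> interval_cases k <;> omega
  refine ⟨h8, fun x hx => ?_⟩
  have hQ : Nat.card ((P : Subgroup G) ⊓ T : Subgroup G) = 4 := by
    have := h.card_inf P hJ hP; omega
  have key : ∀ y ∈ (P : Subgroup G) ⊓ T, y * y = 1 := fun y hy => h.model_sq hy.2 (by
    have h4 := congrArg Subtype.val (pow_card_eq_one' (x := (⟨y, hy⟩ : ((P : Subgroup G) ⊓ T : Subgroup G))))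
    rw [hQ] at h4
    exact h4)
  rcases h.split (Subgroup.mem_centralizer_singleton_iff.1 (hP hx)) with h' | h'
  · exact key x ⟨hx, h'⟩
  · have := key _ ⟨mul_mem hJ hx, h'⟩
    rwa [show J * x * (J * x) = J * (x * J) * x by group,
      Subgroup.mem_centralizer_singleton_iff.1 (hP hx), ← mul_assoc J J x, h.sq, one_mul] at this

theorem one_class (h : Data J T m) {x y : G} (hx : orderOf x = 2) (hy : orderOf y = 2) :
    ∃ g : G, g * x * g⁻¹ = y := by
  obtain ⟨a, ha⟩ := h.conj_into hx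
  obtain ⟨b, hb⟩ := h.conj_into hy
  obtain ⟨c, -, hc⟩ := h.model_fuse ha hb
    (by rw [show a * x * a⁻¹ = MulAut.conj a x from rfl, MulEquiv.orderOf_eq, hx])
    (by rw [show b * y * b⁻¹ = MulAut.conj b y from rfl, MulEquiv.orderOf_eq, hy])
  refine ⟨b⁻¹ * c * a, ?_⟩
  calc b⁻¹ * c * a * x * (b⁻¹ * c * a)⁻¹ = b⁻¹ * (c * (a * x * a⁻¹) * c⁻¹) * b := by group
    _ = y := by rw [hc]; group

/-- An odd normal subgroup meets the centraliser trivially. -/
theorem odd_inf_C (h : Data J T m) {N : Subgroup G} (hN : N.Normal) (hodd : Odd (Nat.card N)) {n : G}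
    (hn : n ∈ N) (hnJ : n * J = J * n) : n = 1 := by
  have hoN : ∀ k ∈ N, Odd (orderOf k) := fun k hk =>
    Odd.of_dvd_nat hodd (Subgroup.orderOf_dvd_natCard N hk)
  have hsq1 : ∀ k ∈ N, k * k = 1 → k = 1 := fun k hk hk2 => by
    have hd : orderOf k ∣ 2 := orderOf_dvd_of_pow_eq_one (by rw [pow_two]; exact hk2)
    rcases (Nat.dvd_prime Nat.prime_two).1 hd with e | e
    · exact orderOf_eq_one_iff.1 e
    · exact absurd (hoN k hk) (by rw [e]; decide)
  have hnT : n ∈ T := by
    obtain ⟨k, hk⟩ := hoN n hn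
    have : n = (n * n) ^ (k + 1) := by
      rw [← pow_two, ← pow_mul, show 2 * (k + 1) = orderOf n + 1 by omega, pow_succ, pow_orderOf_eq_one, one_mul]
    rw [this]
    exact pow_mem (h.sq_mem hnJ) _
  obtain ⟨e⟩ := h.iso
  set K : Subgroup T := N.subgroupOf T with hK
  haveI : K.Normal := hN.comap T.subtype
  have hKodd : Odd (Nat.card K) := Odd.of_dvd_nat hodd
    (Subgroup.card_comap_dvd_of_injective N T.subtype T.subtype_injective)
  rcases h.small with rfl | rfl
  · have hcomm : ∀ v : alternatingGroup (Fin 4), v * v = 1 → v * e ⟨n, hnT⟩ = e ⟨n, hnT⟩ * v := by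
      intro v hv
      have hmem : ((e.symm v * ⟨n, hnT⟩ * (e.symm v)⁻¹ * ⟨n, hnT⟩⁻¹ : T) : G) ∈ N := by
        simp only [Subgroup.coe_mul, Subgroup.coe_inv]
        exact mul_mem (hN.conj_mem n hn _) (inv_mem hn)
      have h2 : (e.symm v * ⟨n, hnT⟩ * (e.symm v)⁻¹ * ⟨n, hnT⟩⁻¹ : T) *
          (e.symm v * ⟨n, hnT⟩ * (e.symm v)⁻¹ * ⟨n, hnT⟩⁻¹ : T) = 1 := by
        apply e.injective
        simp only [map_mul, map_inv, map_one, e.apply_symm_apply]
        exact comm_four v _ hv
      have h1 : (e.symm v * ⟨n, hnT⟩ * (e.symm v)⁻¹ * ⟨n, hnT⟩⁻¹ : T) = 1 :=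
        Subtype.ext (hsq1 _ hmem (congrArg Subtype.val h2))
      have h3 := congrArg e h1
      simp only [map_mul, map_inv, map_one, e.apply_symm_apply] at h3
      rw [mul_inv_eq_one, mul_inv_eq_iff_eq_mul] at h3
      exact h3
    refine hsq1 n hn ?_
    have := congrArg e.symm (cent_four _ hcomm)
    rw [map_mul, map_one, e.symm_apply_apply] at this
    exact congrArg Subtype.val this
  · haveI := simple_five
    haveI : IsSimpleGroup T := e.isSimpleGroup
    rcases Subgroup.Normal.eq_bot_or_eq_top (inferInstance : K.Normal) with e1 | e1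
    · have : (⟨n, hnT⟩ : T) ∈ K := Subgroup.mem_subgroupOf.2 hn
      rw [e1, Subgroup.mem_bot] at this
      exact congrArg Subtype.val this
    · rw [e1, Subgroup.card_top, Nat.card_congr e.toEquiv, card_five] at hKodd
      exact absurd hKodd (by decide)

theorem odd_normal_trivial (h : Data J T m) {N : Subgroup G} (hN : N.Normal) (hodd : Odd (Nat.card N)) :
    N = ⊥ := by
  rw [eq_bot_iff]
  intro n hn
  rw [Subgroup.mem_bot]
  obtain ⟨P, hJ, hP⟩ := h.exists_sylow
  obtain ⟨h8, hsq⟩ := h.sylow_facts P hJ hP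
  have inv_all : ∀ x ∈ (P : Subgroup G), x ≠ 1 → ∀ k ∈ N, x * k * x⁻¹ = k⁻¹ := by
    intro x hx hx1 k hk
    refine inverts (hsq x hx) (fun a ha => hN.conj_mem a ha x) (fun a ha hax => ?_) hk
    haveI : Fact (Nat.Prime 2) := ⟨Nat.prime_two⟩
    obtain ⟨g, hg⟩ := h.one_class (orderOf_eq_prime (by rw [pow_two]; exact hsq x hx) hx1) h.ord
    have h1 : g * a * g⁻¹ = 1 := h.odd_inf_C hN hodd (hN.conj_mem a ha g) (by
      rw [← hg]
      calc g * a * g⁻¹ * (g * x * g⁻¹) = g * (a * x) * g⁻¹ := by group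
        _ = g * x * g⁻¹ * (g * a * g⁻¹) := by rw [hax]; group)
    exact conj_eq_one_iff.1 h1
  haveI : Nontrivial ((P : Subgroup G) ⊓ T : Subgroup G) :=
    Finite.one_lt_card_iff_nontrivial.1 (by have := h.card_inf P hJ hP; omega)
  obtain ⟨⟨y, hy⟩, hy1⟩ := exists_ne (1 : ((P : Subgroup G) ⊓ T : Subgroup G))
  have hy1' : y ≠ 1 := fun e => hy1 (Subtype.ext e)
  have hJy : J * y ≠ 1 := fun e => h.notMem (by
    rw [mul_eq_one_iff_eq_inv] at e; rw [e]; exact inv_mem hy.2)
  have i1 := inv_all J hJ h.ne_one n hn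
  have i2 := inv_all y hy.1 hy1' n hn
  have i3 := inv_all (J * y) (mul_mem hJ hy.1) hJy n hn
  have hnn : n⁻¹ = n := by
    rw [← i3]
    calc J * y * n * (J * y)⁻¹ = J * (y * n * y⁻¹) * J⁻¹ := by group
      _ = (J * n * J⁻¹)⁻¹ := by rw [i2]; group
      _ = n := by rw [i1, inv_inv]
  have hd : orderOf n ∣ 2 := orderOf_dvd_of_pow_eq_one (by
    rw [pow_two]; nth_rewrite 1 [← hnn]; group)
  rcases (Nat.dvd_prime Nat.prime_two).1 hd with e | e
  · exact orderOf_eq_one_iff.1 e
  · have := Odd.of_dvd_nat hodd (Subgroup.orderOf_dvd_natCard N hn)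
    rw [e] at this
    exact absurd this (by decide)

/-- The simple normal subgroup. -/
structure Socle (J : G) (M : Subgroup G) (P : Sylow 2 G) : Prop where
  normal : M.Normal
  le : (P : Subgroup G) ≤ M
  simple : IsSimpleGroup M
  nonab : ¬ IsMulCommutative M

theorem exists_socle (h : Data J T m) (hns : ¬ Group.IsSolvable G) :
    ∃ (P : Sylow 2 G) (M : Subgroup G), J ∈ (P : Subgroup G) ∧
      (P : Subgroup G) ≤ Subgroup.centralizer ({J} : Set G) ∧ Socle J M P := by
  classical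
  haveI : Fact (Nat.Prime 2) := ⟨Nat.prime_two⟩
  obtain ⟨P, hJ, hP⟩ := h.exists_sylow
  obtain ⟨h8, hsq⟩ := h.sylow_facts P hJ hP
  have hntG : (⊤ : Subgroup G) ≠ ⊥ := fun e => h.ne_one (Subgroup.mem_bot.1 (e ▸ Subgroup.mem_top J))
  obtain ⟨M, ⟨hMn, hMne⟩, hMmin⟩ := WellFounded.has_min (r := fun A B : Subgroup G => A < B)
    (wellFounded_lt) {N : Subgroup G | N.Normal ∧ N ≠ ⊥} ⟨⊤, inferInstance, hntG⟩
  have hmin : ∀ N : Subgroup G, N.Normal → N ≤ M → N = ⊥ ∨ N = M := fun N hN hle => by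
    rcases eq_or_ne N ⊥ with e | e
    · exact Or.inl e
    · rcases eq_or_lt_of_le hle with e' | e'
      · exact Or.inr e'
      · exact absurd e' (hMmin N ⟨hN, e⟩)
  have heven : 2 ∣ Nat.card M := by
    by_contra hh
    exact hMne (h.odd_normal_trivial hMn (Nat.not_even_iff_odd.1 fun he => hh (even_iff_two_dvd.1 he)))
  have hord2 : ∀ x : G, x * x = 1 → x ≠ 1 → orderOf x = 2 := fun x hx hx1 =>
    orderOf_eq_prime (by rw [pow_two]; exact hx) hx1
  have hall : ∀ x : G, x * x = 1 → x ∈ M := by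
    intro x hx
    by_cases hx1 : x = 1
    · rw [hx1]; exact one_mem _
    obtain ⟨⟨y, hy⟩, hy2⟩ := exists_prime_orderOf_dvd_card' 2 heven
    rw [Subgroup.orderOf_mk] at hy2
    obtain ⟨g, hg⟩ := h.one_class hy2 (hord2 x hx hx1)
    rw [← hg]
    exact hMn.conj_mem y hy g
  have hPM : (P : Subgroup G) ≤ M := fun x hx => hall x (hsq x hx)
  have hnotp : ¬ IsPGroup 2 M := by
    intro hp
    have hPeq : M = (P : Subgroup G) := P.is_maximal' hp hPM
    haveI : (P : Subgroup G).Normal := hPeq ▸ hMn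
    apply hns
    have hq : Odd (Nat.card (G ⧸ (P : Subgroup G))) := by
      rw [← Subgroup.index_eq_card, ← Nat.not_even_iff_odd, even_iff_two_dvd]
      exact P.not_dvd_index
    haveI : Group.IsSolvable (G ⧸ (P : Subgroup G)) := OddChar.oddSolvable.{u} _ hq
    haveI : Group.IsSolvable (P : Subgroup G) := by
      haveI := P.isPGroup'.isNilpotent
      infer_instance
    exact Group.isSolvable_of_ker_le_range (P : Subgroup G).subtype (QuotientGroup.mk' (P : Subgroup G))
      (by rw [QuotientGroup.ker_mk', Subgroup.range_subtype])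
  have hnab : ¬ IsMulCommutative M := by
    intro hab
    let V : Subgroup G :=
      { carrier := {x | x ∈ M ∧ x * x = 1}
        one_mem' := ⟨one_mem _, one_mul 1⟩
        mul_mem' := by
          rintro a b ⟨ha, ha2⟩ ⟨hb, hb2⟩
          refine ⟨mul_mem ha hb, ?_⟩
          have : a * b = b * a := congrArg Subtype.val (hab.is_comm.comm (⟨a, ha⟩ : M) ⟨b, hb⟩)
          calc a * b * (a * b) = a * (b * a) * b := by group
            _ = (a * a) * (b * b) := by rw [← this]; group
            _ = 1 := by rw [ha2, hb2, mul_one]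
        inv_mem' := by
          rintro a ⟨ha, ha2⟩
          exact ⟨inv_mem ha, by rw [← mul_inv_rev, ha2, inv_one]⟩ }
    have hV : V.Normal := ⟨fun x hx g => ⟨hMn.conj_mem x hx.1 g, by
      rw [show g * x * g⁻¹ * (g * x * g⁻¹) = g * (x * x) * g⁻¹ by group, hx.2]; group⟩⟩
    rcases hmin V hV (fun x hx => hx.1) with e | e
    · exact h.ne_one (Subgroup.mem_bot.1 (e ▸ (⟨hall J h.sq, h.sq⟩ : J ∈ V)))
    · refine hnotp fun x => ⟨1, Subtype.ext ?_⟩
      have : (x : G) ∈ V := e.symm ▸ x.2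
      simpa [pow_two] using this.2
  refine ⟨P, M, hJ, hP, hMn, hPM, ?_, hnab⟩
  haveI := hMn
  obtain ⟨T0, _, k, hT0, hk, ⟨φ⟩⟩ := Cfsg.Agent.S0721.result M hMne hmin
  haveI : Finite (Fin k → T0) := Finite.of_equiv M φ.toEquiv
  haveI : Finite T0 := Finite.of_surjective (fun f : Fin k → T0 => f ⟨0, hk⟩) fun x => ⟨fun _ => x, rfl⟩
  have hT0ab : ¬ IsMulCommutative T0 := fun hab => hnab ⟨⟨fun a b => φ.injective (by
    rw [map_mul, map_mul]; funext i; exact hab.is_comm.comm _ _)⟩⟩
  have hcard : Nat.card M = Nat.card T0 ^ k := by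
    rw [Nat.card_congr φ.toEquiv, Nat.card_fun, Nat.card_fin]
  obtain ⟨S⟩ : Nonempty (Sylow 2 T0) := inferInstance
  obtain ⟨a, ha⟩ := IsPGroup.iff_card.1 S.isPGroup'
  have ha' : 2 ^ a = 2 ^ (Nat.card T0).factorization 2 := by rw [← ha, S.card_eq_multiplicity]
  have hak : k * a = 3 := by
    have h1 : (Nat.card M).factorization 2 = 3 := by
      have h2 := (P.subtype hPM).card_eq_multiplicity
      rw [show Nat.card ((P.subtype hPM : Sylow 2 M) : Subgroup M) = Nat.card (P : Subgroup G) from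
        Nat.card_congr (Subgroup.subgroupOfEquivOfLe hPM).toEquiv, h8] at h2
      exact (Nat.pow_right_injective (le_refl 2) (a₁ := 3) h2).symm
    rw [hcard, Nat.factorization_pow, Finsupp.smul_apply, smul_eq_mul,
      ← Nat.pow_right_injective (le_refl 2) ha'] at h1
    exact h1
  have hk13 : k = 1 ∨ k = 3 := (Nat.dvd_prime Nat.prime_three).1 ⟨a, hak.symm⟩
  rcases hk13 with rfl | rfl
  · exact (φ.trans (MulEquiv.funUnique (Fin 1) T0)).isSimpleGroup
  · exfalso
    obtain rfl : a = 1 := by omega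
    haveI : IsCyclic (S : Subgroup T0) := isCyclic_of_prime_card (p := 2) (by rw [ha, pow_one])
    have hdvd : 2 ∣ Nat.card T0 := by
      have := Subgroup.card_subgroup_dvd_card (S : Subgroup T0)
      rwa [ha, pow_one] at this
    have hmf : (Nat.card T0).minFac = 2 := (Nat.minFac_eq_two_iff _).2 hdvd
    have hcompl := MonoidHom.ker_transferSylow_isComplement' S
      (IsCyclic.normalizer_le_centralizer (P := S) hmf inferInstance)
    have hmul := hcompl.card_mul_card
    rcases (inferInstance : (MonoidHom.transferSylow S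
      (IsCyclic.normalizer_le_centralizer (P := S) hmf inferInstance)).ker.Normal).eq_bot_or_eq_top with e | e
    · rw [e, Subgroup.card_bot, one_mul, ha, pow_one] at hmul
      haveI : IsCyclic T0 := isCyclic_of_prime_card (p := 2) hmul.symm
      exact hT0ab IsCyclic.isMulCommutative
    · rw [e, Subgroup.card_top, ha, pow_one] at hmul
      have : 0 < Nat.card T0 := Nat.card_pos
      omega

end Data

end Cfsg.Agent.CentAlt
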