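import Mathlib.GroupTheory.SpecificGroups.Alternating
import Mathlib.Tactic.Group

/-!
In an alternating group of degree at least six every involution is a product of squares of elements
of its centraliser.
-/

set_option autoImplicit false
set_option linter.unusedSimpArgs false

namespace Cfsg.Agent.CentAlt

open Equiv Equiv.Perm

variable {α : Type*} [Fintype α] [DecidableEq α]

/-- The squares of even permutations commuting with `σ` generate this subgroup. -/
def sqCent (σ : Perm α) : Subgroup (Perm α) :=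
  Subgroup.closure {z | ∃ w : Perm α, sign w = 1 ∧ w * σ = σ * w ∧ z = w * w}

theorem pair_swap {a b c d e f : α} (hab : a ≠ b) (hac : a ≠ c) (had : a ≠ d) (hae : a ≠ e) (haf : a ≠ f)
    (hbc : b ≠ c) (hbd : b ≠ d) (hbe : b ≠ e) (hbf : b ≠ f) (hcd : c ≠ d) (hce : c ≠ e) (hcf : c ≠ f)
    (hde : d ≠ e) (hdf : d ≠ f) (hef : e ≠ f) (σ : Perm α) (hσ : ∀ x, σ (σ x) = x)
    (ha : σ a = b) (hc : σ c = d) (he : σ e = f ∨ (σ e = e ∧ σ f = f)) :
    swap a b * swap c d ∈ sqCent σ := by
  have hb : σ b = a := by rw [← ha, hσ]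
  have hd : σ d = c := by rw [← hc, hσ]
  set w : Perm α := swap a b * (swap a c * swap b d) * swap e f with hw
  have wa : w a = c := by
    simp [hw, Perm.mul_apply, swap_apply_def, hab, hac, had, hae, haf, hbc, hbd, hbe, hbf, hcd, hce, hcf, hde, hdf,
      hef, hac.symm, hbc.symm]
  have wb : w b = d := by
    simp [hw, Perm.mul_apply, swap_apply_def, hab, hac, had, hae, haf, hbc, hbd, hbe, hbf, hcd, hce, hcf, hde, hdf,
      hef, hab.symm, hac.symm, hbc.symm, hbd.symm, had.symm, hcd.symm]
  have wc : w c = b := by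
    simp [hw, Perm.mul_apply, swap_apply_def, hab, hac, had, hae, haf, hbc, hbd, hbe, hbf, hcd, hce, hcf, hde, hdf,
      hef, hac.symm, hbc.symm]
  have wd : w d = a := by
    simp [hw, Perm.mul_apply, swap_apply_def, hab, hac, had, hae, haf, hbc, hbd, hbe, hbf, hcd, hce, hcf, hde, hdf,
      hef, hab.symm, had.symm, hbd.symm, hbc.symm, hcd.symm]
  have we : w e = f := by
    simp [hw, Perm.mul_apply, swap_apply_def, haf.symm, hbf.symm, hcf.symm, hdf.symm]
  have wf : w f = e := by
    simp [hw, Perm.mul_apply, swap_apply_def, hae.symm, hbe.symm, hce.symm, hde.symm]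
  have wo : ∀ x, x ≠ a → x ≠ b → x ≠ c → x ≠ d → x ≠ e → x ≠ f → w x = x := fun x xa xb xc xd xe xf => by
    simp [hw, Perm.mul_apply, swap_apply_def, xa, xb, xc, xd, xe, xf]
  refine Subgroup.subset_closure ⟨w, ?_, ?_, ?_⟩
  · simp [hw, sign_mul, sign_swap hab, sign_swap hac, sign_swap hbd, sign_swap hef]
  · refine Equiv.ext fun x => ?_
    simp only [Perm.mul_apply]
    by_cases xa : x = a
    · subst xa; rw [ha, wb, wa, hc]
    by_cases xb : x = b
    · subst xb; rw [hb, wa, wb, hd]
    by_cases xc : x = c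
    · subst xc; rw [hc, wd, wc, hb]
    by_cases xd : x = d
    · subst xd; rw [hd, wc, wd, ha]
    by_cases xe : x = e
    · subst xe
      rcases he with he | ⟨he, hf⟩
      · rw [he, wf, we, ← he, hσ]
      · rw [he, we, hf]
    by_cases xf : x = f
    · subst xf
      rcases he with he | ⟨he, hf⟩
      · have hf : σ x = e := by rw [← he, hσ]
        rw [hf, we, wf, he]
      · rw [hf, wf, he]
    have s : ∀ y z, σ y = z → x ≠ y → σ x ≠ z := fun y z hy hne h => hne (σ.injective (h.trans hy.symm))
    have n1 := s b a hb xb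
    have n2 := s a b ha xa
    have n3 := s d c hd xd
    have n4 := s c d hc xc
    have n5 : σ x ≠ e ∧ σ x ≠ f := by
      rcases he with he | ⟨he, hf⟩
      · exact ⟨s f e (by rw [← he, hσ]) xf, s e f he xe⟩
      · exact ⟨s e e he xe, s f f hf xf⟩
    rw [wo x xa xb xc xd xe xf, wo _ n1 n2 n3 n4 n5.1 n5.2]
  · refine Equiv.ext fun x => ?_
    simp only [Perm.mul_apply]
    by_cases xa : x = a
    · subst xa; rw [wa, wc, swap_apply_of_ne_of_ne hac had, swap_apply_left]
    by_cases xb : x = b
    · subst xb; rw [wb, wd, swap_apply_of_ne_of_ne hbc hbd, swap_apply_right]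
    by_cases xc : x = c
    · subst xc; rw [wc, wb, swap_apply_left, swap_apply_of_ne_of_ne had.symm hbd.symm]
    by_cases xd : x = d
    · subst xd; rw [wd, wa, swap_apply_right, swap_apply_of_ne_of_ne hac.symm hbc.symm]
    have hr : swap a b (swap c d x) = x := by
      rw [swap_apply_of_ne_of_ne xc xd, swap_apply_of_ne_of_ne xa xb]
    rw [hr]
    by_cases xe : x = e
    · subst xe; rw [we, wf]
    by_cases xf : x = f
    · subst xf; rw [wf, we]
    rw [wo x xa xb xc xd xe xf, wo x xa xb xc xd xe xf]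

theorem mem_sqCent (h6 : 6 ≤ Fintype.card α) (σ : Perm α) (hσ : ∀ x, σ (σ x) = x) :
    ∀ ρ : Perm α, sign ρ = 1 → (∀ x, ρ x = x ∨ ρ x = σ x) → ρ ∈ sqCent σ := by
  suffices h : ∀ n, ∀ ρ : Perm α, (ρ.support.card ≤ n) → sign ρ = 1 → (∀ x, ρ x = x ∨ ρ x = σ x) → ρ ∈ sqCent σ from
    fun ρ => h _ ρ le_rfl
  intro n
  induction n with
  | zero =>
    intro ρ hn _ _
    have : ρ = 1 := Perm.support_eq_empty_iff.1 (Finset.card_eq_zero.1 (Nat.le_zero.1 hn))
    rw [this]; exact one_mem _
  | succ n ih =>
    intro ρ hn hsgn hsub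
    by_cases h1 : ρ = 1
    · rw [h1]; exact one_mem _
    have hρρ : ∀ x, ρ (ρ x) = x := fun x => by
      rcases hsub x with h | h
      · rw [h, h]
      · rcases hsub (ρ x) with h' | h'
        · have := ρ.injective h'
          rw [this, this]
        · rw [h', h, hσ]
    obtain ⟨a, ha⟩ : ∃ a, ρ a ≠ a := by
      by_contra! hcon
      exact h1 (Equiv.ext fun x => hcon x)
    set b := ρ a with hb
    have hba : ρ b = a := hρρ a
    obtain ⟨c, hc, hca, hcb⟩ : ∃ c, ρ c ≠ c ∧ c ≠ a ∧ c ≠ b := by
      by_contra! hcon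
      have : ρ = swap a b := Equiv.ext fun x => by
        by_cases xa : x = a
        · rw [xa, swap_apply_left]
        by_cases xb : x = b
        · rw [xb, swap_apply_right, hba]
        rw [swap_apply_of_ne_of_ne xa xb]
        by_contra hx
        exact xb (hcon x hx xa)
      rw [this, sign_swap (Ne.symm ha)] at hsgn
      exact absurd hsgn (by decide)
    set d := ρ c with hd
    have hdc : ρ d = c := hρρ c
    have hda : d ≠ a := fun h => hcb (ρ.injective (h.trans hba.symm))
    have hdb : d ≠ b := fun h => hca (ρ.injective h)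
    have hσab : σ a = b := ((hsub a).resolve_left ha).symm
    have hσcd : σ c = d := ((hsub c).resolve_left hc).symm
    have hτ : swap a b * swap c d ∈ sqCent σ := by
      by_cases hex : ∃ e, σ e ≠ e ∧ e ≠ a ∧ e ≠ b ∧ e ≠ c ∧ e ≠ d
      · obtain ⟨e, he, e1, e2, e3, e4⟩ := hex
        have f1 : σ e ≠ a := fun h => e2 (by rw [← hσab, ← h, hσ])
        have f2 : σ e ≠ b := fun h => e1 (σ.injective (h.trans hσab.symm))
        have f3 : σ e ≠ c := fun h => e4 (by rw [← hσcd, ← h, hσ])
        have f4 : σ e ≠ d := fun h => e3 (σ.injective (h.trans hσcd.symm))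
        exact pair_swap (Ne.symm ha) hca.symm hda.symm e1.symm f1.symm hcb.symm hdb.symm e2.symm f2.symm
          (Ne.symm hc) e3.symm f3.symm e4.symm f4.symm he.symm σ hσ hσab hσcd (Or.inl rfl)
      · push Not at hex
        obtain ⟨e, he⟩ : ∃ e, e ∉ ({a, b, c, d} : Finset α) := by
          by_contra! hcon
          have hsubset : (Finset.univ : Finset α) ⊆ {a, b, c, d} := fun x _ => hcon x
          have := (Finset.card_le_card hsubset).trans Finset.card_le_four
          rw [Finset.card_univ] at this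
          omega
        obtain ⟨f, hf⟩ : ∃ f, f ∉ ({a, b, c, d, e} : Finset α) := by
          by_contra! hcon
          have hsubset : (Finset.univ : Finset α) ⊆ {a, b, c, d, e} := fun x _ => hcon x
          have := (Finset.card_le_card hsubset).trans Finset.card_le_five
          rw [Finset.card_univ] at this
          omega
        simp only [Finset.mem_insert, Finset.mem_singleton, not_or] at he hf
        obtain ⟨e1, e2, e3, e4⟩ := he
        obtain ⟨f1, f2, f3, f4, f5⟩ := hf
        have se : σ e = e := by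
          by_contra h
          exact e4 (hex e h e1 e2 e3)
        have sf : σ f = f := by
          by_contra h
          exact f4 (hex f h f1 f2 f3)
        exact pair_swap (Ne.symm ha) hca.symm hda.symm (Ne.symm e1) (Ne.symm f1) hcb.symm hdb.symm (Ne.symm e2)
          (Ne.symm f2) (Ne.symm hc) (Ne.symm e3) (Ne.symm f3) (Ne.symm e4) (Ne.symm f4) (Ne.symm f5) σ hσ hσab
          hσcd (Or.inr ⟨se, sf⟩)
    set ρ' := swap a b * swap c d * ρ with hρ'
    have ra : ρ' a = a := by
      rw [hρ', Perm.mul_apply, Perm.mul_apply, ← hb, swap_apply_of_ne_of_ne hcb.symm hdb.symm, swap_apply_right]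
    have rb : ρ' b = b := by
      rw [hρ', Perm.mul_apply, Perm.mul_apply, hba, swap_apply_of_ne_of_ne hca.symm hda.symm, swap_apply_left]
    have rc : ρ' c = c := by
      rw [hρ', Perm.mul_apply, Perm.mul_apply, ← hd, swap_apply_right, swap_apply_of_ne_of_ne hca hcb]
    have rd : ρ' d = d := by
      rw [hρ', Perm.mul_apply, Perm.mul_apply, hdc, swap_apply_left, swap_apply_of_ne_of_ne hda hdb]
    have ro : ∀ x, x ≠ a → x ≠ b → x ≠ c → x ≠ d → ρ' x = ρ x := fun x xa xb xc xd => by
      have i1 : ρ x ≠ a := fun h => xb (ρ.injective (h.trans hba.symm))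
      have i2 : ρ x ≠ b := fun h => xa (ρ.injective h)
      have i3 : ρ x ≠ c := fun h => xd (ρ.injective (h.trans hdc.symm))
      have i4 : ρ x ≠ d := fun h => xc (ρ.injective h)
      rw [hρ', Perm.mul_apply, Perm.mul_apply, swap_apply_of_ne_of_ne i3 i4, swap_apply_of_ne_of_ne i1 i2]
    have hcard : ρ'.support.card < ρ.support.card := by
      refine Finset.card_lt_card ⟨fun x hx => ?_, fun hcon => ?_⟩
      · rw [Perm.mem_support] at hx ⊢
        by_cases xa : x = a
        · exact absurd (xa ▸ ra) hx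
        by_cases xb : x = b
        · exact absurd (xb ▸ rb) hx
        by_cases xc : x = c
        · exact absurd (xc ▸ rc) hx
        by_cases xd : x = d
        · exact absurd (xd ▸ rd) hx
        rwa [← ro x xa xb xc xd]
      · exact Perm.mem_support.1 (hcon (Perm.mem_support.2 ha)) ra
    have h2 : ρ' ∈ sqCent σ := by
      refine ih ρ' (by omega) ?_ fun x => ?_
      · rw [hρ', sign_mul, sign_mul, sign_swap (Ne.symm ha), sign_swap (Ne.symm hc), hsgn]; decide
      by_cases xa : x = a
      · exact Or.inl (xa ▸ ra)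
      by_cases xb : x = b
      · exact Or.inl (xb ▸ rb)
      by_cases xc : x = c
      · exact Or.inl (xc ▸ rc)
      by_cases xd : x = d
      · exact Or.inl (xd ▸ rd)
      rw [ro x xa xb xc xd]
      exact hsub x
    have h3 : ρ = (swap a b * swap c d)⁻¹ * ρ' := by rw [hρ']; group
    rw [h3]
    exact mul_mem (inv_mem hτ) h2

theorem mem_closure_squares (h6 : 6 ≤ Fintype.card α) (σ : alternatingGroup α) (hσ : σ * σ = 1) :
    σ ∈ Subgroup.closure {z : alternatingGroup α | ∃ w : alternatingGroup α, w * σ = σ * w ∧ z = w * w} := by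
  have h := mem_sqCent h6 (σ : Perm α) (fun x => by
    have := congrArg (fun p : alternatingGroup α => (p : Perm α) x) hσ
    simpa using this) σ σ.2 (fun x => Or.inr rfl)
  have hle : sqCent (σ : Perm α) ≤ (Subgroup.closure {z : alternatingGroup α | ∃ w : alternatingGroup α,
      w * σ = σ * w ∧ z = w * w}).map (alternatingGroup α).subtype := by
    rw [sqCent, Subgroup.closure_le]
    rintro z ⟨w, hw, hcomm, rfl⟩
    exact ⟨⟨w, hw⟩ * ⟨w, hw⟩, Subgroup.subset_closure ⟨⟨w, hw⟩, Subtype.ext hcomm, rfl⟩, rfl⟩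
  obtain ⟨y, hy, hye⟩ := hle h
  exact (Subtype.ext hye : y = σ) ▸ hy

end Cfsg.Agent.CentAlt
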